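import Mathlib
import Groth.Agent.CMCat.ComplQuot

/-!
For a module-finite algebra `A` over a semilocal Noetherian ring `A₀`, the completion of `A`
along its Jacobson radical is `A ⊗[A₀] Â₀`.
-/

set_option autoImplicit false

universe u

open scoped TensorProduct

namespace Groth.Agent.FSRelComplLib

variable (A₀ A : Type u) [CommRing A₀] [CommRing A] [Algebra A₀ A]

local notation "J₀" => (Ideal.jacobson (⊥ : Ideal A₀))
local notation "K" => (Ideal.jacobson (⊥ : Ideal A))

theorem map_jacobson_le [Algebra.IsIntegral A₀ A] :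
    Ideal.map (algebraMap A₀ A) J₀ ≤ K := by
  rw [Ideal.map_le_iff_le_comap]
  intro x hx
  rw [Ideal.mem_comap]
  refine (Ideal.mem_sInf).2 fun {m} hm => ?_
  haveI : m.IsMaximal := hm.2
  haveI : (m.comap (algebraMap A₀ A)).IsMaximal :=
    Ideal.isMaximal_comap_of_isIntegral_of_isMaximal m
  exact (Ideal.mem_sInf).1 hx (I := m.comap (algebraMap A₀ A)) ⟨bot_le, inferInstance⟩

theorem exists_pow_jacobson_le [IsNoetherianRing A₀] [Finite (MaximalSpectrum A₀)]
    [Module.Finite A₀ A] :
    ∃ c : ℕ, K ^ c ≤ Ideal.map (algebraMap A₀ A) J₀ := by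
  haveI : IsNoetherianRing A := IsNoetherianRing.of_finite A₀ A
  refine Ideal.exists_pow_le_of_le_radical_of_fg ?_ (IsNoetherian.noetherian K)
  rw [Ideal.radical_eq_sInf]
  refine le_sInf fun P hP => ?_
  obtain ⟨hJP, hPp⟩ := hP
  haveI := Fintype.ofFinite (MaximalSpectrum A₀)
  have h1 : (Finset.univ.inf fun m : MaximalSpectrum A₀ => m.asIdeal) ≤ J₀ := by
    refine le_sInf fun m hm => ?_
    exact Finset.inf_le (f := fun m : MaximalSpectrum A₀ => m.asIdeal)
      (Finset.mem_univ (⟨m, hm.2⟩ : MaximalSpectrum A₀))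
  haveI : (P.comap (algebraMap A₀ A)).IsPrime := Ideal.comap_isPrime _ _
  obtain ⟨m, -, hm⟩ := (Ideal.IsPrime.inf_le' (inferInstance : (P.comap (algebraMap A₀ A)).IsPrime)).1
    (h1.trans (Ideal.map_le_iff_le_comap.1 hJP))
  have h2 : P.comap (algebraMap A₀ A) = m.asIdeal :=
    (m.isMaximal.eq_of_le (Ideal.IsPrime.ne_top inferInstance) hm).symm
  haveI : P.IsMaximal :=
    Ideal.isMaximal_of_isIntegral_of_isMaximal_comap P (h2 ▸ m.isMaximal)
  exact sInf_le ⟨bot_le, inferInstance⟩

/-- `Â₀ → Â` as an `A₀`-algebra map. -/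
noncomputable def complAlgHom [Algebra.IsIntegral A₀ A] :
    AdicCompletion J₀ A₀ →ₐ[A₀] AdicCompletion K A :=
  { CMCat.complHom (algebraMap A₀ A) J₀ K (map_jacobson_le A₀ A) with
    commutes' := fun a => by
      refine (CMCat.complHom_algebraMap (algebraMap A₀ A) J₀ K (map_jacobson_le A₀ A) a).trans ?_
      exact (IsScalarTower.algebraMap_apply A₀ A (AdicCompletion K A) a).symm }

/-- `A ⊗[A₀] Â₀ → Â`. -/
noncomputable def baseHom [Algebra.IsIntegral A₀ A] :
    A ⊗[A₀] AdicCompletion J₀ A₀ →ₐ[A] AdicCompletion K A :=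
  Algebra.TensorProduct.lift (Algebra.ofId A _) (complAlgHom A₀ A) (fun _ _ => Commute.all _ _)

variable [Algebra.IsIntegral A₀ A]

theorem baseHom_tmul (a : A) (y : AdicCompletion J₀ A₀) :
    baseHom A₀ A (a ⊗ₜ y) = algebraMap A _ a * complAlgHom A₀ A y :=
  Algebra.TensorProduct.lift_tmul _ _ _ _ _

theorem smul_top_le_pow (n : ℕ) :
    ((J₀ ^ n • ⊤ : Submodule A₀ A) : Set A) ⊆ ((K ^ n : Ideal A) : Set A) := by
  intro x hx
  rw [Ideal.smul_top_eq_map, SetLike.mem_coe, Submodule.restrictScalars_mem, Ideal.map_pow] at hx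
  exact Ideal.pow_right_mono (map_jacobson_le A₀ A) n hx

theorem evalₐ_baseHom (n : ℕ) (t : AdicCompletion J₀ A₀ ⊗[A₀] A) (b : A)
    (hb : (AdicCompletion.ofTensorProduct J₀ A t).val n = Submodule.Quotient.mk b) :
    AdicCompletion.evalₐ K n (baseHom A₀ A (Algebra.TensorProduct.comm A₀ _ _ t)) =
      Ideal.Quotient.mk (K ^ n) b := by
  have key : ∀ b b' : A, Submodule.Quotient.mk (p := (J₀ ^ n • ⊤ : Submodule A₀ A)) b =
      Submodule.Quotient.mk b' → Ideal.Quotient.mk (K ^ n) b' = Ideal.Quotient.mk (K ^ n) b :=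
    fun b b' h => (Ideal.Quotient.mk_eq_mk_iff_sub_mem _ _).2
      (smul_top_le_pow A₀ A n ((Submodule.Quotient.eq _).1 h.symm))
  induction t using TensorProduct.induction_on generalizing b with
  | zero =>
    rw [map_zero, map_zero, map_zero]
    rw [map_zero, AdicCompletion.val_zero_apply] at hb
    exact (map_zero (Ideal.Quotient.mk (K ^ n))).symm.trans (key _ 0 hb.symm)
  | tmul x a =>
    rw [AdicCompletion.ofTensorProduct_tmul, AdicCompletion.smul_eval] at hb
    induction x using AdicCompletion.induction_on with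
    | h f =>
      rw [Algebra.TensorProduct.comm_tmul, baseHom_tmul, map_mul, AlgHom.commutes,
        Ideal.Quotient.algebraMap_eq]
      have h3 : AdicCompletion.evalₐ K n (complAlgHom A₀ A (AdicCompletion.mk J₀ A₀ f)) =
          Ideal.Quotient.mk (K ^ n) (algebraMap A₀ A (f.1 n)) :=
        (CMCat.evalₐ_complHom (algebraMap A₀ A) J₀ K (map_jacobson_le A₀ A) n _).trans
          (CMCat.levelHom_mk (algebraMap A₀ A) J₀ K (map_jacobson_le A₀ A) n f)
      rw [h3, ← map_mul, mul_comm, ← Algebra.smul_def]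
      exact key _ _ hb.symm
  | add s t hs ht =>
    obtain ⟨b₁, hb₁⟩ := Submodule.Quotient.mk_surjective _ ((AdicCompletion.ofTensorProduct J₀ A s).val n)
    obtain ⟨b₂, hb₂⟩ := Submodule.Quotient.mk_surjective _ ((AdicCompletion.ofTensorProduct J₀ A t).val n)
    rw [map_add, map_add, map_add, hs b₁ hb₁.symm, ht b₂ hb₂.symm, ← map_add]
    refine key _ _ ?_
    rw [Submodule.Quotient.mk_add, hb₁, hb₂, ← hb, map_add]
    rfl

theorem baseHom_bijective [IsNoetherianRing A₀] [Finite (MaximalSpectrum A₀)]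
    [Module.Finite A₀ A] : Function.Bijective (baseHom A₀ A) := by
  obtain ⟨c, hc⟩ := exists_pow_jacobson_le A₀ A
  have hsub : ∀ m : ℕ, ∀ x : A, x ∈ K ^ (c * m) → x ∈ (J₀ ^ m • ⊤ : Submodule A₀ A) := by
    intro m x hx
    rw [Ideal.smul_top_eq_map, Submodule.restrictScalars_mem, Ideal.map_pow]
    exact Ideal.pow_right_mono hc m (by rwa [pow_mul] at hx)
  have hiso := AdicCompletion.ofTensorProduct_bijective_of_finite_of_isNoetherian (I := J₀) (M := A)
  refine ⟨?_, ?_⟩
  · rw [injective_iff_map_eq_zero]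
    intro s hs
    obtain ⟨t, rfl⟩ := (Algebra.TensorProduct.comm A₀ (AdicCompletion J₀ A₀) A).surjective s
    suffices ht : t = 0 by rw [ht, map_zero]
    refine hiso.1 ?_
    rw [map_zero]
    ext m
    obtain ⟨b, hb⟩ := Submodule.Quotient.mk_surjective _
      ((AdicCompletion.ofTensorProduct J₀ A t).val (max m (c * m)))
    have h4 := evalₐ_baseHom A₀ A (max m (c * m)) t b hb.symm
    rw [hs, map_zero] at h4
    have h5 : b ∈ K ^ (c * m) :=
      Ideal.pow_le_pow_right (le_max_right _ _) (Ideal.Quotient.eq_zero_iff_mem.1 h4.symm)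
    have h6 := (AdicCompletion.ofTensorProduct J₀ A t).2 (le_max_left m (c * m))
    rw [← hb] at h6
    rw [AdicCompletion.val_zero_apply]
    refine h6.symm.trans ?_
    exact (Submodule.Quotient.mk_eq_zero _).2 (hsub m b h5)
  · intro y
    choose a ha using fun n => Ideal.Quotient.mk_surjective (AdicCompletion.evalₐ K n y)
    have hcompat : ∀ {m n : ℕ}, m ≤ n → a n - a m ∈ K ^ m := by
      intro m n hmn
      induction y using AdicCompletion.induction_on with
      | h f =>
        have e1 : ∀ k, a k - f.1 k ∈ K ^ k := fun k => by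
          rw [← Ideal.Quotient.mk_eq_mk_iff_sub_mem, ha k, AdicCompletion.evalₐ_mk]
        have e2 := CMCat.cauchy_sub_mem K f hmn
        have h7 := sub_mem (add_mem (Ideal.pow_le_pow_right hmn (e1 n)) e2) (e1 m)
        exact (by ring : a n - f.1 n + (f.1 n - f.1 m) - (a m - f.1 m) = a n - a m) ▸ h7
    let g : AdicCompletion.AdicCauchySequence J₀ A :=
      ⟨fun m => a (c * m + m), fun {m n} hmn => by
        refine (SModEq.sub_mem).2 ?_
        show a (c * m + m) - a (c * n + n) ∈ _
        rw [← Submodule.neg_mem_iff, neg_sub]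
        exact hsub m _ (Ideal.pow_le_pow_right (Nat.le_add_right _ _)
          (hcompat (Nat.add_le_add (Nat.mul_le_mul_left c hmn) hmn)))⟩
    obtain ⟨t, ht⟩ := hiso.2 (AdicCompletion.mk J₀ A g)
    refine ⟨Algebra.TensorProduct.comm A₀ _ _ t, AdicCompletion.ext_evalₐ fun n => ?_⟩
    rw [evalₐ_baseHom A₀ A n t (a (c * n + n)) (by rw [ht]; rfl), ← ha n,
      Ideal.Quotient.mk_eq_mk_iff_sub_mem]
    exact hcompat (Nat.le_add_left _ _)

end Groth.Agent.FSRelComplLib
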